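import Groth.Prelude.Def_MultCurve
import Groth.Agent.Lib.IdealModSec.Basic
import Groth.Agent.Lib.QCoh.ClosedImmersion
import Groth.Agent.Lib.H1Sheaf6.Conormal

/-!
# Square-zero ideals with invertible conormal sheaf
-/

set_option autoImplicit false
set_option linter.style.haveILetI false
set_option backward.isDefEq.respectTransparency false

universe u

open CategoryTheory CategoryTheory.Limits AlgebraicGeometry TopologicalSpace Opposite
open GrothLib.InvExt GrothLib.IdealModSec

noncomputable section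

namespace GrothLib.SqZero11

variable {C : Scheme.{u}} (I : C.IdealSheafData)

/-- The unit of the ideal, with values in the conormal sheaf. -/
def unitHom : ClSub.idealMod I ⟶ (Scheme.Modules.pushforward I.subschemeι).obj (Omega.conormal I.subschemeι) :=
  (Scheme.Modules.pullbackPushforwardAdjunction I.subschemeι).unit.app (ClSub.idealMod I) ≫
    (Scheme.Modules.pushforward I.subschemeι).map
      ((Scheme.Modules.pullback I.subschemeι).map
        (eqToHom (by rw [Scheme.IdealSheafData.ker_subschemeι]) : ClSub.idealMod I ⟶ ClSub.idealMod I.subschemeι.ker))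

/-- The unit on sections of the ideal. -/
def toCon (U : C.Opens) (m : Γ(ClSub.idealMod I, U)) : Γ(Omega.conormal I.subschemeι, I.subschemeι ⁻¹ᵁ U) :=
  (unitHom I).app U m

theorem toCon_smul (U : C.Opens) (a : Γ(C, U)) (m : Γ(ClSub.idealMod I, U)) :
    toCon I U (a • m) = I.subschemeι.app U a • toCon I U m :=
  (Scheme.Modules.Hom.app_smul _ a m).trans rfl

theorem toCon_mres {U W : C.Opens} (h : W ≤ U) (m : Γ(ClSub.idealMod I, U)) :
    toCon I W (mres (ClSub.idealMod I) h m) =
      mres (Omega.conormal I.subschemeι) ((I.subschemeι).preimage_mono h) (toCon I U m) :=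
  ConcreteCategory.congr_hom ((unitHom I).mapPresheaf.naturality (homOfLE h).op) m

variable (hI : I ^ 2 = ⊥)

include hI in
theorem mul_eq_zero_of_mem (U : C.affineOpens) {a b : Γ(C, U.1)} (ha : a ∈ I.ideal U) (hb : b ∈ I.ideal U) :
    a * b = 0 := by
  have h : (I.ideal U) ^ 2 = ⊥ := by
    have := congrArg (fun J : C.IdealSheafData => J.ideal U) hI
    simpa using this
  have h2 : a * b ∈ (I.ideal U) ^ 2 := by rw [pow_two]; exact Ideal.mul_mem_mul ha hb
  rw [h] at h2
  exact h2

include hI in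
theorem killed : ClSub.KilledByIdeal I.subschemeι.ker (ClSub.idealMod I) := fun U a ha m => by
  rw [Scheme.IdealSheafData.ker_subschemeι] at ha
  change Γ(ClSub.idealMod I, U.1) at m
  apply val_injective I U.1
  rw [val_smul, val_zero]
  exact mul_eq_zero_of_mem I hI U ha (val_mem I U m)

include hI in
theorem toCon_bijective (U : C.Opens) : Function.Bijective (toCon I U) := by
  haveI := H1Sheaf6.isQuasicoherent_idealMod I
  haveI := QCoh.isIso_unit_of_killed I.subschemeι (ClSub.idealMod I) (killed I hI)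
  haveI : IsIso (unitHom I) := by unfold unitHom; infer_instance
  exact ConcreteCategory.bijective_of_isIso ((unitHom I).app U)

include hI in
theorem surjective_subschemeι (x : C) : ∃ y : I.subscheme, I.subschemeι y = x := by
  have h : I.support = ⊤ := by
    have h1 : (I ^ 2).support = I.support := by simp
    rw [← h1, hI, Scheme.IdealSheafData.support_bot]
  have hx : x ∈ Set.range I.subschemeι := by
    rw [Scheme.IdealSheafData.range_subschemeι, h]
    trivial
  exact hx

include hI in
theorem isPrincipal_of_isInvertible (h : PicF.IsInvertible (Omega.conormal I.subschemeι)) :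
    MultCurve.IsPrincipalOfOrder I 2 := by
  intro x
  obtain ⟨y, rfl⟩ := surjective_subschemeι I hI x
  obtain ⟨V, e, hy, he⟩ := exists_gen_nhd h y
  obtain ⟨O, hO, hOV⟩ := I.subschemeι.isClosedEmbedding.isInducing.isOpen_iff.1 V.2
  have hyO : I.subschemeι y ∈ (⟨O, hO⟩ : C.Opens) :=
    (Set.ext_iff.1 hOV y).2 hy
  obtain ⟨U, hxU, hUO⟩ := GrothLib.BlowUp.exists_affine_mem_le hyO
  have hle : I.subschemeι ⁻¹ᵁ U.1 ≤ V := fun z hz => by
    exact (Set.ext_iff.1 hOV z).1 (hUO hz)
  obtain ⟨g, hg⟩ := (toCon_bijective I hI U.1).2 (mres _ hle e)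
  refine ⟨U, hxU, val I U.1 g, le_antisymm (fun a ha => ?_) ?_, fun a ha => ?_⟩
  · obtain ⟨m, rfl⟩ := exists_val_eq I U ha
    obtain ⟨c, hc⟩ := he.exists_smul_eq hle (toCon I U.1 m)
    obtain ⟨c, rfl⟩ := I.subschemeι.app_surjective U.1 U.2 c
    have hm : c • g = m := (toCon_bijective I hI U.1).1 (by rw [toCon_smul, hg]; exact hc.symm)
    rw [← hm, val_smul]
    exact Ideal.mem_span_singleton'.2 ⟨c, rfl⟩
  · rw [Ideal.span_singleton_le_iff_mem]
    exact val_mem I U g
  · rw [Nat.add_one_sub_one, pow_one] at ha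
    have h0 : a • g = 0 := val_injective I U.1 (by rw [val_smul, val_zero]; exact ha)
    have h1 : I.subschemeι.app U.1 a • mres _ hle e = (0 : Γ(Omega.conormal I.subschemeι, I.subschemeι ⁻¹ᵁ U.1)) := by
      rw [← hg, ← toCon_smul, h0]
      exact map_zero _
    have h2 : I.subschemeι.app U.1 a = 0 := he.smul_left_injective hle (h1.trans (zero_smul _ _).symm)
    rw [← I.ker_subschemeι_app U]
    exact h2

include hI in
theorem isInvertible_of_isPrincipal (h : MultCurve.IsPrincipalOfOrder I 2) :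
    PicF.IsInvertible (Omega.conormal I.subschemeι) := by
  refine isInvertible_of_gens fun y => ?_
  obtain ⟨U, hxU, z, hz, hann⟩ := h (I.subschemeι y)
  obtain ⟨g, rfl⟩ := exists_val_eq I U (hz ▸ Ideal.mem_span_singleton_self z)
  refine ⟨I.subschemeι ⁻¹ᵁ U.1, toCon I U.1 g, hxU, ?_⟩
  let M := Omega.conormal I.subschemeι
  have hbasic : ∀ f : Γ(C, U.1), Function.Bijective fun c : Γ(I.subscheme, I.subschemeι ⁻¹ᵁ C.basicOpen f) =>
      c • mres M ((I.subschemeι).preimage_mono (C.basicOpen_le f)) (toCon I U.1 g) := by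
    intro f
    let T : C.affineOpens := C.affineBasicOpen f
    have hTU : T.1 ≤ U.1 := C.basicOpen_le f
    letI := (C.presheaf.map (homOfLE hTU).op).hom.toAlgebra
    haveI : IsLocalization (Submonoid.powers f) Γ(C, T.1) := by
      haveI := U.2.isLocalization_basicOpen f
      exact this
    have hIT : I.ideal T = Ideal.span {fres C hTU (val I U.1 g)} := by
      rw [← I.map_ideal (U := T) (V := U) hTU, hz, Ideal.map_span, Set.image_singleton]
      rfl
    suffices h : Function.Bijective fun c : Γ(I.subscheme, I.subschemeι ⁻¹ᵁ T.1) => c • toCon I T.1 (mres _ hTU g) by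
      rw [toCon_mres I hTU g] at h
      exact h
    refine ⟨fun c d hcd => ?_, fun m => ?_⟩
    · obtain ⟨c, rfl⟩ := I.subschemeι.app_surjective T.1 T.2 c
      obtain ⟨d, rfl⟩ := I.subschemeι.app_surjective T.1 T.2 d
      simp only [← toCon_smul] at hcd
      have hv := congrArg (val I T.1) ((toCon_bijective I hI T.1).1 hcd)
      rw [val_smul, val_smul, val_mres] at hv
      have hsub : c - d ∈ I.ideal T := by
        obtain ⟨⟨a, ⟨_, n, rfl⟩⟩, ha⟩ := IsLocalization.surj (Submonoid.powers f) (c - d)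
        have hz0 : algebraMap Γ(C, U.1) Γ(C, T.1) (a * val I U.1 g) = 0 := by
          rw [map_mul, ← ha]
          show _ * fres C hTU (val I U.1 g) = 0
          linear_combination (fres C hTU (f ^ n)) * hv
        obtain ⟨⟨_, m, rfl⟩, hm⟩ := (IsLocalization.map_eq_zero_iff (Submonoid.powers f) Γ(C, T.1) _).1 hz0
        have hmem : f ^ m * a ∈ I.ideal U := hann _ (by
          rw [Nat.add_one_sub_one, pow_one, mul_assoc]; exact hm)
        have hmap : algebraMap Γ(C, U.1) Γ(C, T.1) (f ^ m * a) ∈ I.ideal T := by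
          rw [← I.map_ideal (U := T) (V := U) hTU]
          exact Ideal.mem_map_of_mem _ hmem
        rw [map_mul, ← ha] at hmap
        have hu : ∀ j : ℕ, IsUnit (algebraMap Γ(C, U.1) Γ(C, T.1) (f ^ j)) := fun j =>
          IsLocalization.map_units Γ(C, T.1) (⟨f ^ j, j, rfl⟩ : Submonoid.powers f)
        rw [Ideal.unit_mul_mem_iff_mem _ (hu m), Ideal.mul_unit_mem_iff_mem _ (hu n)] at hmap
        exact hmap
      rw [← I.ker_subschemeι_app T] at hsub
      rw [RingHom.mem_ker, map_sub, sub_eq_zero] at hsub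
      exact hsub
    · obtain ⟨k, rfl⟩ := (toCon_bijective I hI T.1).2 m
      obtain ⟨c, hc⟩ := Ideal.mem_span_singleton'.1 (hIT ▸ val_mem I T k)
      refine ⟨I.subschemeι.app T.1 c, ?_⟩
      dsimp only
      rw [← toCon_smul]
      congr 1
      exact val_injective I T.1 (by rw [val_smul, val_mres]; exact hc)
  intro W hW
  obtain ⟨O, hO, hOW⟩ := I.subschemeι.isClosedEmbedding.isInducing.isOpen_iff.1 W.2
  let κ := {f : Γ(C, U.1) // (C.basicOpen f : Set C) ⊆ O}
  let T : κ → I.subscheme.Opens := fun f => I.subschemeι ⁻¹ᵁ C.basicOpen f.1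
  have hTW : ∀ f, T f ≤ W := fun f z hz => (Set.ext_iff.1 hOW z).1 (f.2 hz)
  have hcov : W ≤ ⨆ f, T f := fun z hz => by
    have hzO : I.subschemeι z ∈ (⟨O, hO⟩ : C.Opens) :=
      (Set.ext_iff.1 hOW z).2 hz
    obtain ⟨f, hf, hzf⟩ := U.2.exists_basicOpen_le ⟨I.subschemeι z, hzO⟩ (hW hz)
    exact Opens.mem_iSup.2 ⟨⟨f, hf⟩, hzf⟩
  let e := toCon I U.1 g
  have hb : ∀ f, Function.Bijective fun c : Γ(I.subscheme, T f) => c • mres M ((hTW f).trans hW) e :=
    fun f => hbasic f.1
  have hinj : ∀ (V : I.subscheme.Opens) (hV : V ≤ W) (c d : Γ(I.subscheme, V)),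
      c • mres M (hV.trans hW) e = d • mres M (hV.trans hW) e → c = d := fun V hV c d hcd => by
    refine I.subscheme.sheaf.eq_of_locally_eq' (fun f : κ => T f ⊓ V) V (fun f => homOfLE inf_le_right) ?_ c d
      fun f => ?_
    · intro z hz
      obtain ⟨f, hf⟩ := Opens.mem_iSup.1 (hcov (hV hz))
      exact Opens.mem_iSup.2 ⟨f, hf, hz⟩
    · have := congrArg (mres M (inf_le_right : T f ⊓ V ≤ V)) hcd
      simp only [InvExt.mres_smul, InvExt.mres_mres] at this
      refine I.subscheme.sheaf.eq_of_locally_eq'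
        (fun f' : {f' : Γ(C, U.1) // (C.basicOpen f' : Set C) ⊆ O ∧ T f ⊓ V ≥ I.subschemeι ⁻¹ᵁ C.basicOpen f'} =>
          I.subschemeι ⁻¹ᵁ C.basicOpen f'.1) (T f ⊓ V) (fun f' => homOfLE f'.2.2) ?_ _ _ fun f' => ?_
      · intro z hz
        obtain ⟨O', hO', hOV⟩ := I.subschemeι.isClosedEmbedding.isInducing.isOpen_iff.1 (T f ⊓ V).2
        have hzO' : I.subschemeι z ∈ (⟨O ∩ O', hO.inter hO'⟩ : C.Opens) :=
          ⟨(Set.ext_iff.1 hOW z).2 (hTW f hz.1), (Set.ext_iff.1 hOV z).2 hz⟩
        obtain ⟨f', hf', hzf'⟩ := U.2.exists_basicOpen_le ⟨I.subschemeι z, hzO'⟩ (hW (hTW f hz.1))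
        refine Opens.mem_iSup.2 ⟨⟨f', fun w hw => (hf' hw).1, fun w hw => ?_⟩, hzf'⟩
        exact (Set.ext_iff.1 hOV w).1 (hf' hw).2
      · refine (hbasic f'.1).1 ?_
        have h2 := congrArg (mres M f'.2.2) this
        simp only [InvExt.mres_smul, InvExt.mres_mres] at h2
        exact h2
  refine ⟨fun c d => hinj W le_rfl c d, fun m => ?_⟩
  choose c hc using fun f => (hb f).2 (mres M (hTW f) m)
  obtain ⟨s, hs, -⟩ := I.subscheme.sheaf.existsUnique_gluing' T W (fun f => homOfLE (hTW f)) hcov c (by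
    intro i j
    refine hinj _ (inf_le_left.trans (hTW i)) _ _ ?_
    have hi := congrArg (mres M (inf_le_left : T i ⊓ T j ≤ T i)) (hc i)
    have hj := congrArg (mres M (inf_le_right : T i ⊓ T j ≤ T j)) (hc j)
    simp only [InvExt.mres_smul, InvExt.mres_mres] at hi hj
    exact hi.trans hj.symm)
  let s' : Γ(I.subscheme, W) := s
  refine ⟨s', TopCat.Sheaf.eq_of_locally_eq' ⟨M.presheaf, M.isSheaf⟩ T W (fun f => homOfLE (hTW f)) hcov _ _
    fun f => ?_⟩
  show mres M (hTW f) (s' • mres M hW e) = mres M (hTW f) m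
  rw [InvExt.mres_smul, InvExt.mres_mres, ← hc f]
  congr 1
  exact hs f

end GrothLib.SqZero11
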