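import Groth.Prelude.Def_MultCurve
import Groth.Agent.Lib.PPGen.DiffBasic
import Groth.Agent.Lib.GrBC.Basic
import Groth.Agent.Lib.H1Sheaf6.Conormal
import Mathlib.Algebra.Homology.DerivedCategory.Ext.ExtClass

/-!
# Functoriality of restricted cotangent sequences
-/

set_option autoImplicit false
set_option linter.style.haveILetI false
set_option backward.isDefEq.respectTransparency false

universe w u

open CategoryTheory CategoryTheory.Limits AlgebraicGeometry TopologicalSpace Opposite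
open GrothLib.IdealModSec

noncomputable section

namespace GrothLib.SqZero11

section

variable {D C C' S : Scheme.{u}} (i : D ⟶ C) (g : C ⟶ C') (pC' : C' ⟶ S)
  {Ω₁ : C.Modules} (d₁ : OmegaSh.Der (g ≫ pC') Ω₁)

theorem pullSect_map' (M : C.Modules) {U V : C.Opens} (h : U ≤ V) (m : Γ(M, V)) :
    OmegaSh.pullSect i M U (M.presheaf.map (homOfLE h).op m) =
      ((Scheme.Modules.pullback i).obj M).presheaf.map (homOfLE (i.preimage_mono h)).op
        (OmegaSh.pullSect i M V m) :=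
  ConcreteCategory.congr_hom
    (((Scheme.Modules.pullbackPushforwardAdjunction i).unit.app M).mapPresheaf.naturality (homOfLE h).op) m

/-- The derivation `s ↦ i^*(d(g♯ s))`. -/
def pullDer : OmegaSh.Der pC' ((Scheme.Modules.pushforward (i ≫ g)).obj ((Scheme.Modules.pullback i).obj Ω₁)) where
  d {U} := AddMonoidHom.mk' (fun s => OmegaSh.pullSect i Ω₁ (g ⁻¹ᵁ U.unop) (d₁.app (g ⁻¹ᵁ U.unop) (g.app U.unop s)))
    (fun s t => by simp only [map_add])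
  d_mul {U} s t := by
    show OmegaSh.pullSect i Ω₁ (g ⁻¹ᵁ U.unop) (d₁.app _ (g.app U.unop (s * t))) =
      i.app (g ⁻¹ᵁ U.unop) (g.app U.unop s) • OmegaSh.pullSect i Ω₁ (g ⁻¹ᵁ U.unop) (d₁.app _ (g.app U.unop t)) +
        i.app (g ⁻¹ᵁ U.unop) (g.app U.unop t) • OmegaSh.pullSect i Ω₁ (g ⁻¹ᵁ U.unop) (d₁.app _ (g.app U.unop s))
    have h := d₁.d_mul (X := op (g ⁻¹ᵁ U.unop)) (g.app U.unop s) (g.app U.unop t)
    change d₁.app (g ⁻¹ᵁ U.unop) (g.app U.unop s * g.app U.unop t) =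
      g.app U.unop s • d₁.app (g ⁻¹ᵁ U.unop) (g.app U.unop t) +
        g.app U.unop t • d₁.app (g ⁻¹ᵁ U.unop) (g.app U.unop s) at h
    rw [map_mul, h, map_add]
    exact congrArg₂ (· + ·) (Scheme.Modules.Hom.app_smul _ _ _) (Scheme.Modules.Hom.app_smul _ _ _)
  d_map {U U'} f s := by
    show OmegaSh.pullSect i Ω₁ (g ⁻¹ᵁ U'.unop) (d₁.app _ (g.app U'.unop (C'.presheaf.map f s))) =
      ((Scheme.Modules.pullback i).obj Ω₁).presheaf.map (homOfLE (i.preimage_mono (g.preimage_mono f.unop.le))).op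
        (OmegaSh.pullSect i Ω₁ (g ⁻¹ᵁ U.unop) (d₁.app _ (g.app U.unop s)))
    have h1 : g.app U'.unop (C'.presheaf.map f s) =
        C.presheaf.map (homOfLE (g.preimage_mono f.unop.le)).op (g.app U.unop s) :=
      ConcreteCategory.congr_hom (g.c.naturality f) s
    rw [h1, ← pullSect_map' i Ω₁ (g.preimage_mono f.unop.le)]
    congr 1
    exact d₁.d_map (homOfLE (g.preimage_mono f.unop.le)).op (g.app U.unop s)
  d_app {W} c := by
    show OmegaSh.pullSect i Ω₁ _ (d₁.app _ (g.app _ (pC'.app W.unop c))) = 0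
    rw [show g.app (pC' ⁻¹ᵁ W.unop) (pC'.app W.unop c) = (g ≫ pC').app W.unop c from rfl]
    exact (congrArg _ (d₁.d_app c)).trans (map_zero _)

variable {Ω₁' : C'.Modules} {d₁' : OmegaSh.Der pC' Ω₁'} (hd₁' : OmegaSh.IsUniversal d₁')

/-- The map of restricted differentials. -/
def diffMap : (Scheme.Modules.pullback (i ≫ g)).obj Ω₁' ⟶ (Scheme.Modules.pullback i).obj Ω₁ :=
  ((Scheme.Modules.pullbackPushforwardAdjunction (i ≫ g)).homEquiv _ _).symm (hd₁' _ (pullDer i g pC' d₁)).choose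

theorem diffMap_pullSect (U : C'.Opens) (s : Γ(C', U)) :
    (diffMap i g pC' d₁ hd₁').app ((i ≫ g) ⁻¹ᵁ U) (OmegaSh.pullSect (i ≫ g) Ω₁' U (d₁'.app U s)) =
      OmegaSh.pullSect i Ω₁ (g ⁻¹ᵁ U) (d₁.app (g ⁻¹ᵁ U) (g.app U s)) := by
  let adj := Scheme.Modules.pullbackPushforwardAdjunction (i ≫ g)
  refine (congr($((adj.homEquiv_unit _ _ (diffMap i g pC' d₁ hd₁')).symm.trans
    (Equiv.apply_symm_apply (adj.homEquiv _ _) _)).app U (d₁'.app U s))).trans ?_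
  exact PresheafOfModules.Derivation.congr_d (hd₁' _ (pullDer i g pC' d₁)).choose_spec.1 (X := op U) s

include hd₁' in
theorem diffMap_compat {Ω₂ : D.Modules} {pD : D ⟶ S} {d₂ : OmegaSh.Der pD Ω₂}
    (c : (Scheme.Modules.pullback i).obj Ω₁ ⟶ Ω₂) (hc : OmegaSh.IsDiffCompat i d₁ d₂ c)
    (c' : (Scheme.Modules.pullback (i ≫ g)).obj Ω₁' ⟶ Ω₂) (hc' : OmegaSh.IsDiffCompat (i ≫ g) d₁' d₂ c') :
    diffMap i g pC' d₁ hd₁' ≫ c = c' := by
  let adj := Scheme.Modules.pullbackPushforwardAdjunction (i ≫ g)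
  refine (adj.homEquiv _ _).injective (PPGen.hom_ext_universal hd₁' _ _ fun U s => ?_)
  refine (congr($(adj.homEquiv_unit _ _ (diffMap i g pC' d₁ hd₁' ≫ c)).app U (d₁'.app U s))).trans
    (Eq.trans ?_ (congr($(adj.homEquiv_unit _ _ c').app U (d₁'.app U s))).symm)
  show c.app ((i ≫ g) ⁻¹ᵁ U) ((diffMap i g pC' d₁ hd₁').app ((i ≫ g) ⁻¹ᵁ U)
    (OmegaSh.pullSect (i ≫ g) Ω₁' U (d₁'.app U s))) = c'.app _ (OmegaSh.pullSect (i ≫ g) Ω₁' U (d₁'.app U s))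
  rw [diffMap_pullSect, hc' U s]
  exact hc (g ⁻¹ᵁ U) (g.app U s)

include hd₁' in
theorem diffMap_conormal [QuasiCompact i] (φ : Omega.conormal i ⟶ (Scheme.Modules.pullback i).obj Ω₁)
    (hφ : OmegaSh.IsConormalDiff i d₁ φ)
    (φ' : Omega.conormal (i ≫ g) ⟶ (Scheme.Modules.pullback (i ≫ g)).obj Ω₁')
    (hφ' : OmegaSh.IsConormalDiff (i ≫ g) d₁' φ')
    (α : (Scheme.Modules.pullback (𝟙 D)).obj (Omega.conormal (i ≫ g)) ⟶ Omega.conormal i)
    (hα : OmegaSh.IsConormalMap i (i ≫ g) g (𝟙 D) α) :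
    φ' ≫ diffMap i g pC' d₁ hd₁' =
      ((Scheme.Modules.pullbackId D).inv.app (Omega.conormal (i ≫ g)) ≫ α) ≫ φ := by
  refine PPGen.hom_ext_pullSect (i ≫ g) (M := ClSub.idealMod (i ≫ g).ker) _ _ fun U m => ?_
  show (diffMap i g pC' d₁ hd₁').app _ (φ'.app ((i ≫ g) ⁻¹ᵁ U) (OmegaSh.conormalSect (i ≫ g) U m)) =
    φ.app ((i ≫ g) ⁻¹ᵁ U) (α.app ((i ≫ g) ⁻¹ᵁ U)
      (((Scheme.Modules.pullbackId D).inv.app (Omega.conormal (i ≫ g))).app ((i ≫ g) ⁻¹ᵁ U)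
        (OmegaSh.conormalSect (i ≫ g) U m)))
  rw [hφ' U m, diffMap_pullSect, PPGen.pullbackId_inv_app]
  obtain ⟨s, hs⟩ : ∃ s : Γ(ClSub.idealMod i.ker, g ⁻¹ᵁ U),
      OmegaSh.idealSect i.ker (g ⁻¹ᵁ U) s = g.app U (OmegaSh.idealSect (i ≫ g).ker U m) := by
    refine (app_kernel (ClSub.toSubscheme i.ker) (g ⁻¹ᵁ U)).2 _ ?_
    have h0 : i.app (g ⁻¹ᵁ U) (g.app U (OmegaSh.idealSect (i ≫ g).ker U m)) = 0 :=
      H1Sheaf6.app_val_eq_zero (i ≫ g) U m
    show i.ker.subschemeι.app (g ⁻¹ᵁ U) (g.app U (OmegaSh.idealSect (i ≫ g).ker U m)) = 0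
    generalize g.app U (OmegaSh.idealSect (i ≫ g).ker U m) = t at h0 ⊢
    rw [Scheme.Hom.congr_app i.toImage_imageι.symm (g ⁻¹ᵁ U), Scheme.Hom.comp_app] at h0
    refine TopCat.Presheaf.app_injective_of_stalkFunctor_map_injective (F := i.ker.subscheme.sheaf) i.toImage.c _
      (fun x _ => i.stalkFunctor_toImage_injective x) ?_
    rw [map_zero]
    exact (ConcreteCategory.bijective_of_isIso (D.presheaf.map (eqToHom _).op)).1 (h0.trans (map_zero _).symm)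
  rw [← hs, ← hφ (g ⁻¹ᵁ U) s]
  congr 1
  have h := hα.2 U m s hs ((i ≫ g) ⁻¹ᵁ U) le_rfl le_rfl
  have hid : ∀ y : Γ(Omega.conormal i, (i ≫ g) ⁻¹ᵁ U), (Omega.conormal i).presheaf.map (𝟙 _) y = y := fun y => by
    rw [CategoryTheory.Functor.map_id]; rfl
  exact ((hid _).symm.trans h.symm).trans (hid _)

end

/-- The restricted cotangent extensions correspond along the conormal map. -/
theorem extClass_comp_conormalMap {D C C' S : Scheme.{u}} (pD : D ⟶ S) (Ω₂ : D.Modules)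
    (d₂ : OmegaSh.Der pD Ω₂) [HasExt.{w} D.Modules] (i : D ⟶ C) [QuasiCompact i] (pC : C ⟶ S)
    (Ω₁ : C.Modules) (d₁ : OmegaSh.Der pC Ω₁)
    (φ : Omega.conormal i ⟶ (Scheme.Modules.pullback i).obj Ω₁) (hφ : OmegaSh.IsConormalDiff i d₁ φ)
    (c : (Scheme.Modules.pullback i).obj Ω₁ ⟶ Ω₂) (hc : OmegaSh.IsDiffCompat i d₁ d₂ c)
    (hw : φ ≫ c = 0) (hS : (ShortComplex.mk φ c hw).ShortExact) (i' : D ⟶ C') (pC' : C' ⟶ S)
    (Ω₁' : C'.Modules) (d₁' : OmegaSh.Der pC' Ω₁') (hd₁' : OmegaSh.IsUniversal d₁')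
    (φ' : Omega.conormal i' ⟶ (Scheme.Modules.pullback i').obj Ω₁') (hφ' : OmegaSh.IsConormalDiff i' d₁' φ')
    (c' : (Scheme.Modules.pullback i').obj Ω₁' ⟶ Ω₂) (hc' : OmegaSh.IsDiffCompat i' d₁' d₂ c')
    (hw' : φ' ≫ c' = 0) (hS' : (ShortComplex.mk φ' c' hw').ShortExact)
    (g : C ⟶ C') (hgi : i ≫ g = i') (hgk : g ≫ pC' = pC)
    (α : (Scheme.Modules.pullback (𝟙 D)).obj (Omega.conormal i') ⟶ Omega.conormal i)
    (hα : OmegaSh.IsConormalMap i i' g (𝟙 D) α) :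
    hS'.extClass.comp (Abelian.Ext.mk₀ ((Scheme.Modules.pullbackId D).inv.app (Omega.conormal i') ≫ α)) (add_zero 1) =
      hS.extClass := by
  subst hgi hgk
  let f : ShortComplex.mk φ' c' hw' ⟶ ShortComplex.mk φ c hw :=
    { τ₁ := (Scheme.Modules.pullbackId D).inv.app (Omega.conormal (i ≫ g)) ≫ α
      τ₂ := diffMap i g pC' d₁ hd₁'
      τ₃ := 𝟙 Ω₂
      comm₁₂ := (diffMap_conormal i g pC' d₁ hd₁' φ hφ φ' hφ' α hα).symm
      comm₂₃ := (diffMap_compat i g pC' d₁ hd₁' c hc c' hc').trans (Category.comp_id c').symm }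
  exact (ShortComplex.ShortExact.extClass_naturality hS' hS f).trans (Abelian.Ext.mk₀_id_comp _)

end GrothLib.SqZero11
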