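import Groth.Agent.Lib.SqZero11.Conormal
import Groth.Agent.Lib.SqZero11.ExtClass

/-!
# Morphisms out of a square-zero extension and lifts of differentials
-/

set_option autoImplicit false
set_option linter.style.haveILetI false
set_option backward.isDefEq.respectTransparency false

universe u

open CategoryTheory CategoryTheory.Limits AlgebraicGeometry TopologicalSpace Opposite
open GrothLib.InvExt GrothLib.IdealModSec

noncomputable section

namespace GrothLib.SqZero11

variable {D C S : Scheme.{u}} (i : D ⟶ C) [IsClosedImmersion i]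

theorem exists_idealSect (V : C.Opens) (t : Γ(C, V)) (h : i.app V t = 0) :
    ∃ m : Γ(ClSub.idealMod i.ker, V), OmegaSh.idealSect i.ker V m = t := by
  refine (app_kernel (ClSub.toSubscheme i.ker) V).2 _ ?_
  show i.ker.subschemeι.app V t = 0
  rw [Scheme.Hom.congr_app i.toImage_imageι.symm V, Scheme.Hom.comp_app] at h
  refine TopCat.Presheaf.app_injective_of_stalkFunctor_map_injective (F := i.ker.subscheme.sheaf) i.toImage.c _
    (fun x _ => i.stalkFunctor_toImage_injective x) ?_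
  rw [map_zero]
  exact (ConcreteCategory.bijective_of_isIso (D.presheaf.map (eqToHom _).op)).1 (h.trans (map_zero _).symm)

variable (hI : i.ker ^ 2 = ⊥)

include hI in
theorem conormalSect_bijective (V : C.Opens) : Function.Bijective (OmegaSh.conormalSect i V) := by
  haveI := H1Sheaf6.isQuasicoherent_idealMod i.ker
  haveI : IsIso ((Scheme.Modules.pullbackPushforwardAdjunction i).unit.app (ClSub.idealMod i.ker)) := by
    refine QCoh.isIso_unit_of_killed i (ClSub.idealMod i.ker) fun U a ha m => ?_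
    change Γ(ClSub.idealMod i.ker, U.1) at m
    apply val_injective i.ker U.1
    rw [val_smul, val_zero]
    exact mul_eq_zero_of_mem i.ker hI U ha (val_mem i.ker U m)
  exact ConcreteCategory.bijective_of_isIso
    (((Scheme.Modules.pullbackPushforwardAdjunction i).unit.app (ClSub.idealMod i.ker)).app V)

include hI in
theorem isHomeomorph_base : IsHomeomorph i := by
  refine isHomeomorph_iff_isEmbedding_surjective.mpr ⟨i.isClosedEmbedding.isEmbedding, fun x => ?_⟩
  obtain ⟨y, hy⟩ := surjective_subschemeι i.ker hI x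
  have hx : x ∈ Set.range i.ker.subschemeι := ⟨y, hy⟩
  rw [Scheme.IdealSheafData.range_subschemeι, Scheme.Hom.support_ker, i.isClosedEmbedding.isClosed_range.closure_eq] at hx
  exact hx

variable (pC : C ⟶ S) {Ω₁ : C.Modules} (d₁ : OmegaSh.Der pC Ω₁)

/-- The restricted differential of a function. -/
def delta (V : C.Opens) (t : Γ(C, V)) : Γ((Scheme.Modules.pullback i).obj Ω₁, i ⁻¹ᵁ V) :=
  OmegaSh.pullSect i Ω₁ V (d₁.app V t)

omit [IsClosedImmersion i] in
theorem delta_add (V : C.Opens) (t u : Γ(C, V)) : delta i pC d₁ V (t + u) = delta i pC d₁ V t + delta i pC d₁ V u := by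
  simp only [delta, map_add]

omit [IsClosedImmersion i] in
theorem delta_mul (V : C.Opens) (t u : Γ(C, V)) :
    delta i pC d₁ V (t * u) = i.app V t • delta i pC d₁ V u + i.app V u • delta i pC d₁ V t := by
  have h := d₁.d_mul (X := op V) t u
  change d₁.app V (t * u) = t • d₁.app V u + u • d₁.app V t at h
  simp only [delta]
  rw [h, map_add]
  exact congrArg₂ (· + ·) (Scheme.Modules.Hom.app_smul _ _ _) (Scheme.Modules.Hom.app_smul _ _ _)

omit [IsClosedImmersion i] in
theorem delta_res {V W : C.Opens} (h : W ≤ V) (t : Γ(C, V)) :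
    delta i pC d₁ W (fres C h t) = mres _ (i.preimage_mono h) (delta i pC d₁ V t) :=
  (congrArg (OmegaSh.pullSect i Ω₁ W) (d₁.d_map (homOfLE h).op t)).trans (pullSect_map' i Ω₁ h _)

omit [IsClosedImmersion i] in
theorem app_res {V W : C.Opens} (h : W ≤ V) (t : Γ(C, V)) :
    i.app W (fres C h t) = fres D (i.preimage_mono h) (i.app V t) :=
  ConcreteCategory.congr_hom (i.c.naturality (homOfLE h).op) t

variable {Ω₂ : D.Modules} {φ : Omega.conormal i ⟶ (Scheme.Modules.pullback i).obj Ω₁}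
  (hφ : OmegaSh.IsConormalDiff i d₁ φ) {c : (Scheme.Modules.pullback i).obj Ω₁ ⟶ Ω₂}
  {hw : φ ≫ c = 0} (hS : (ShortComplex.mk φ c hw).ShortExact)

include hS in
omit [IsClosedImmersion i] in
theorem app_phi (W : D.Opens) :
    Function.Injective (φ.app W) ∧
      ∀ m : Γ((Scheme.Modules.pullback i).obj Ω₁, W), c.app W m = 0 → ∃ k, φ.app W k = m := by
  haveI := hS.mono_f
  let L := hS.exact.fIsKernel
  let e : Omega.conormal i ≅ kernel c := IsLimit.conePointUniqueUpToIso L (limit.isLimit _)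
  have he : e.hom ≫ kernel.ι c = φ :=
    IsLimit.conePointUniqueUpToIso_hom_comp L (limit.isLimit _) WalkingParallelPair.zero
  obtain ⟨h1, h2⟩ := app_kernel c W
  refine ⟨fun a b hab => ?_, fun m hm => ?_⟩
  · rw [← he] at hab
    exact (ConcreteCategory.bijective_of_isIso (e.hom.app W)).1 (h1 hab)
  · obtain ⟨k, hk⟩ := h2 m hm
    obtain ⟨k', rfl⟩ := (ConcreteCategory.bijective_of_isIso (e.hom.app W)).2 k
    exact ⟨k', by rw [← hk, ← he]; rfl⟩

include hI hφ hS in
theorem ext_of (V : C.Opens) {t u : Γ(C, V)} (h1 : i.app V t = i.app V u)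
    (h2 : delta i pC d₁ V t = delta i pC d₁ V u) : t = u := by
  obtain ⟨m, hm⟩ := exists_idealSect i V (t - u) (by rw [map_sub, h1, sub_self])
  have h3 : φ.app (i ⁻¹ᵁ V) (OmegaSh.conormalSect i V m) = 0 := by
    rw [hφ V m, hm]
    have : delta i pC d₁ V (t - u) + delta i pC d₁ V u = delta i pC d₁ V t := by rw [← delta_add, sub_add_cancel]
    rw [h2] at this
    exact add_eq_right.1 this
  have h4 : OmegaSh.conormalSect i V m = 0 :=
    (app_phi i hS _).1 (h3.trans (map_zero _).symm)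
  have h5 : m = 0 := (conormalSect_bijective i hI V).1 (h4.trans (map_zero _).symm)
  rw [h5, map_zero] at hm
  exact sub_eq_zero.1 hm.symm

variable {pD : D ⟶ S} {d₂ : OmegaSh.Der pD Ω₂} (hc : OmegaSh.IsDiffCompat i d₁ d₂ c)

include hI hφ hS hc in
theorem exists_of_affine (V : C.affineOpens) (a : Γ(D, i ⁻¹ᵁ V.1))
    (ω : Γ((Scheme.Modules.pullback i).obj Ω₁, i ⁻¹ᵁ V.1)) (h : c.app _ ω = d₂.app _ a) :
    ∃ t : Γ(C, V.1), i.app V.1 t = a ∧ delta i pC d₁ V.1 t = ω := by
  obtain ⟨t, rfl⟩ := i.app_surjective V.1 V.2 a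
  have h0 : c.app _ (ω - delta i pC d₁ V.1 t) = 0 := by
    rw [map_sub, h, sub_eq_zero]
    exact (hc V.1 t).symm
  obtain ⟨k, hk⟩ := (app_phi i hS _).2 _ h0
  obtain ⟨m, rfl⟩ := (conormalSect_bijective i hI V.1).2 k
  refine ⟨t + OmegaSh.idealSect i.ker V.1 m, ?_, ?_⟩
  · rw [map_add]
    exact add_eq_left.2 (H1Sheaf6.app_val_eq_zero i V.1 m)
  · rw [delta_add]
    show delta i pC d₁ V.1 t + OmegaSh.pullSect i Ω₁ V.1 (d₁.app V.1 (OmegaSh.idealSect i.ker V.1 m)) = ω
    rw [← hφ V.1 m, hk]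
    exact add_sub_cancel _ _

include hI hφ hS hc in
theorem exists_of (V : C.Opens) (a : Γ(D, i ⁻¹ᵁ V)) (ω : Γ((Scheme.Modules.pullback i).obj Ω₁, i ⁻¹ᵁ V))
    (h : c.app _ ω = d₂.app _ a) :
    ∃ t : Γ(C, V), i.app V t = a ∧ delta i pC d₁ V t = ω := by
  let κ := {T : C.affineOpens // T.1 ≤ V}
  have hres : ∀ T : κ, c.app _ (mres _ (i.preimage_mono T.2) ω) = d₂.app _ (fres D (i.preimage_mono T.2) a) := by
    intro T
    refine (ConcreteCategory.congr_hom (c.mapPresheaf.naturality (homOfLE (i.preimage_mono T.2)).op) ω).trans ?_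
    exact (congrArg (Ω₂.presheaf.map _) h).trans (d₂.d_map (homOfLE (i.preimage_mono T.2)).op a).symm
  choose t ht1 ht2 using fun T : κ => exists_of_affine i hI pC d₁ hφ hS hc T.1 _ _ (hres T)
  have hcov : V ≤ ⨆ T : κ, T.1.1 := fun x hx => by
    obtain ⟨T, hxT, hT⟩ := GrothLib.BlowUp.exists_affine_mem_le hx
    exact Opens.mem_iSup.mpr ⟨⟨T, hT⟩, hxT⟩
  obtain ⟨s, hs, -⟩ := C.sheaf.existsUnique_gluing' (fun T : κ => T.1.1) V (fun T => homOfLE T.2) hcov t (by
    intro T T'
    refine ext_of i hI pC d₁ hφ hS _ ?_ ?_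
    · refine (app_res i inf_le_left _).trans (Eq.trans ?_ (app_res i inf_le_right _).symm)
      rw [ht1, ht1]
      exact (InvExt.fres_fres _ _ a).trans (InvExt.fres_fres _ _ a).symm
    · refine (delta_res i pC d₁ inf_le_left _).trans (Eq.trans ?_ (delta_res i pC d₁ inf_le_right _).symm)
      rw [ht2, ht2, InvExt.mres_mres, InvExt.mres_mres])
  let s' : Γ(C, V) := s
  have hs' : ∀ T : κ, fres C T.2 s' = t T := hs
  refine ⟨s', ?_, ?_⟩
  · refine D.sheaf.eq_of_locally_eq' (fun T : κ => i ⁻¹ᵁ T.1.1) (i ⁻¹ᵁ V) (fun T => homOfLE (i.preimage_mono T.2))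
      (fun y hy => by
        obtain ⟨T, hT⟩ := Opens.mem_iSup.1 (hcov (show i y ∈ V from hy))
        exact Opens.mem_iSup.2 ⟨T, hT⟩) _ _ fun T => ?_
    exact ((app_res i T.2 s').symm.trans (congrArg _ (hs' T))).trans (ht1 T)
  · refine TopCat.Sheaf.eq_of_locally_eq' ⟨((Scheme.Modules.pullback i).obj Ω₁).presheaf,
      ((Scheme.Modules.pullback i).obj Ω₁).isSheaf⟩ (fun T : κ => i ⁻¹ᵁ T.1.1) (i ⁻¹ᵁ V)
      (fun T => homOfLE (i.preimage_mono T.2)) (fun y hy => by
        obtain ⟨T, hT⟩ := Opens.mem_iSup.1 (hcov (show i y ∈ V from hy))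
        exact Opens.mem_iSup.2 ⟨T, hT⟩) _ _ fun T => ?_
    exact ((delta_res i pC d₁ T.2 s').symm.trans (congrArg _ (hs' T))).trans (ht2 T)

variable {X : Scheme.{u}} (pX : X ⟶ S) (f : D ⟶ X) {Ω₃ : X.Modules} (d₃ : OmegaSh.Der pX Ω₃)
  {df : (Scheme.Modules.pullback f).obj Ω₃ ⟶ Ω₂} (hdf : OmegaSh.IsDiffCompat f d₃ d₂ df)
  (s : (Scheme.Modules.pullback f).obj Ω₃ ⟶ (Scheme.Modules.pullback i).obj Ω₁) (hs : s ≫ c = df)

/-- The continuous map of the extension. -/
def gBase : (C : Scheme.{u}).toPresheafedSpace.carrier ⟶ X.toPresheafedSpace.carrier :=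
  TopCat.ofHom ⟨f ∘ ((isHomeomorph_base i hI).homeomorph i).symm,
    f.continuous.comp ((isHomeomorph_base i hI).homeomorph i).symm.continuous⟩

theorem gBase_apply (y : D) : gBase i hI f (i y) = f y := by
  show f (((isHomeomorph_base i hI).homeomorph i).symm (i y)) = f y
  congr 1
  exact Homeomorph.symm_apply_apply ((isHomeomorph_base i hI).homeomorph i) y

theorem preimage_gBase (U : X.Opens) : i ⁻¹ᵁ ((Opens.map (gBase i hI f)).obj U) = f ⁻¹ᵁ U := by
  ext y
  show gBase i hI f (i y) ∈ U ↔ f y ∈ U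
  rw [gBase_apply]

/-- The prescribed restriction to `D`. -/
def targA (U : X.Opens) (r : Γ(X, U)) : Γ(D, i ⁻¹ᵁ ((Opens.map (gBase i hI f)).obj U)) :=
  fres D (preimage_gBase i hI f U).le (f.app U r)

/-- The prescribed differential. -/
def targW (U : X.Opens) (r : Γ(X, U)) :
    Γ((Scheme.Modules.pullback i).obj Ω₁, i ⁻¹ᵁ ((Opens.map (gBase i hI f)).obj U)) :=
  mres _ (preimage_gBase i hI f U).le (s.app (f ⁻¹ᵁ U) (OmegaSh.pullSect f Ω₃ U (d₃.app U r)))

include hI hφ hS hc hdf hs in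
theorem exists_gApp (U : X.Opens) (r : Γ(X, U)) :
    ∃ t : Γ(C, (Opens.map (gBase i hI f)).obj U), i.app _ t = targA i hI f U r ∧
      delta i pC d₁ _ t = targW i hI pX f d₃ s U r := by
  refine exists_of i hI pC d₁ hφ hS hc _ _ _ ?_
  refine (ConcreteCategory.congr_hom (c.mapPresheaf.naturality (homOfLE (preimage_gBase i hI f U).le).op) _).trans ?_
  refine Eq.trans ?_ (d₂.d_map (homOfLE (preimage_gBase i hI f U).le).op (f.app U r)).symm
  refine congrArg (Ω₂.presheaf.map _) ?_
  have h := hdf U r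
  rw [← hs] at h
  exact h

include hI hφ hS hc hdf hs in
theorem exists_hom_delta (hf : f ≫ pX = i ≫ pC) : ∃ g : C ⟶ X, (i ≫ g = f ∧ g ≫ pX = pC) ∧
    ∀ (U : X.Opens) (r : Γ(X, U)) (h : i ⁻¹ᵁ (g ⁻¹ᵁ U) ≤ f ⁻¹ᵁ U),
      delta i pC d₁ (g ⁻¹ᵁ U) (g.app U r) = mres _ h (s.app (f ⁻¹ᵁ U) (OmegaSh.pullSect f Ω₃ U (d₃.app U r))) := by
  let b := gBase i hI f
  choose gA hA hW using exists_gApp i hI pC d₁ hφ hS hc pX f d₃ hdf s hs
  have huniq : ∀ (U : X.Opens) (r : Γ(X, U)) (t : Γ(C, (Opens.map b).obj U)),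
      i.app _ t = targA i hI f U r → delta i pC d₁ _ t = targW i hI pX f d₃ s U r → gA U r = t :=
    fun U r t h1 h2 => ext_of i hI pC d₁ hφ hS _ ((hA U r).trans h1.symm) ((hW U r).trans h2.symm)
  have hd1 : ∀ U : X.Opens, d₃.app U 1 = 0 := fun U => d₃.d_one (op U)
  have hd0 : ∀ V : C.Opens, d₁.app V 1 = 0 := fun V => d₁.d_one (op V)
  have hWmul : ∀ (U : X.Opens) (r r' : Γ(X, U)), targW i hI pX f d₃ s U (r * r') =
      targA i hI f U r • targW i hI pX f d₃ s U r' + targA i hI f U r' • targW i hI pX f d₃ s U r := by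
    intro U r r'
    have h := d₃.d_mul (X := op U) r r'
    change d₃.app U (r * r') = r • d₃.app U r' + r' • d₃.app U r at h
    have hp : ∀ (a : Γ(X, U)) (m : Γ(Ω₃, U)), OmegaSh.pullSect f Ω₃ U (a • m) =
        f.app U a • OmegaSh.pullSect f Ω₃ U m := fun a m => Scheme.Modules.Hom.app_smul _ _ _
    simp only [targW, targA, h, map_add, hp, Scheme.Modules.Hom.app_smul, InvExt.mres_smul]
  let gHom : ∀ U : X.Opens, Γ(X, U) →+* Γ(C, (Opens.map b).obj U) := fun U =>
    { toFun := gA U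
      map_one' := huniq U 1 1 (by simp [targA]) (by
        simp only [delta, targW, hd0, hd1, map_zero])
      map_mul' := fun r r' => huniq U _ _ (by
          simp only [map_mul, targA]
          rw [hA, hA]
          rfl) (by
        rw [delta_mul, hA, hA, hW, hW, hWmul])
      map_zero' := huniq U 0 0 (by simp [targA]) (by
        simp only [delta, targW, map_zero])
      map_add' := fun r r' => huniq U _ _ (by
          simp only [map_add, targA]
          rw [hA, hA]
          rfl) (by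
        rw [delta_add, hW, hW]
        simp only [targW, map_add]) }
  let gc : X.presheaf ⟶ (TopCat.Presheaf.pushforward CommRingCat b).obj C.presheaf :=
    { app := fun U => CommRingCat.ofHom (gHom U.unop)
      naturality := fun U U' j => by
        ext r
        show gA U'.unop (X.presheaf.map j r) = fres C ((Opens.map b).map j.unop).le (gA U.unop r)
        refine huniq _ _ _ ?_ ?_
        · rw [app_res, hA]
          simp only [targA]
          rw [show f.app U'.unop (X.presheaf.map j r) = fres D (f.preimage_mono j.unop.le) (f.app U.unop r) from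
            ConcreteCategory.congr_hom (f.c.naturality j) r, InvExt.fres_fres, InvExt.fres_fres]
        · rw [delta_res, hW]
          simp only [targW]
          have e1 : d₃.app U'.unop (X.presheaf.map j r) = mres Ω₃ j.unop.le (d₃.app U.unop r) := d₃.d_map j r
          have e2 : OmegaSh.pullSect f Ω₃ U'.unop (mres Ω₃ j.unop.le (d₃.app U.unop r)) =
              mres _ (f.preimage_mono j.unop.le) (OmegaSh.pullSect f Ω₃ U.unop (d₃.app U.unop r)) :=
            pullSect_map' f Ω₃ j.unop.le _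
          have e3 : ∀ m, s.app (f ⁻¹ᵁ U'.unop) (mres _ (f.preimage_mono j.unop.le) m) =
              mres _ (f.preimage_mono j.unop.le) (s.app (f ⁻¹ᵁ U.unop) m) := fun m =>
            ConcreteCategory.congr_hom (s.mapPresheaf.naturality (homOfLE (f.preimage_mono j.unop.le)).op) m
          rw [e1, e2, e3, InvExt.mres_mres, InvExt.mres_mres] }
  let psh : C.toPresheafedSpace.Hom X.toPresheafedSpace := ⟨b, gc⟩
  have hloc : ∀ x : C, IsLocalHom (psh.stalkMap x).hom := fun x => ⟨fun v hv => by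
    obtain ⟨U, hxU, r, rfl⟩ := TopCat.Presheaf.exists_germ_eq X.presheaf v
    erw [PresheafedSpace.stalkMap_germ_apply] at hv
    obtain ⟨y, rfl⟩ := (isHomeomorph_base i hI).surjective x
    have h1 : i y ∈ C.basicOpen (gA U r) := (C.mem_basicOpen _ (i y) hxU).2 hv
    have h2 : y ∈ D.basicOpen (i.app _ (gA U r)) := by rw [← Scheme.preimage_basicOpen]; exact h1
    rw [hA U r, targA, InvExt.fres, Scheme.basicOpen_res] at h2
    have h3 : f y ∈ X.basicOpen r := by
      have := h2.2
      rw [← Scheme.preimage_basicOpen] at this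
      exact this
    rw [← gBase_apply i hI f y] at h3
    exact (X.mem_basicOpen r _ hxU).1 h3⟩
  let g : C ⟶ X := ⟨⟨psh, hloc⟩⟩
  have hgb : ∀ y, g (i y) = f y := gBase_apply i hI f
  refine ⟨g, ⟨Scheme.Hom.ext (TopCat.hom_ext (ContinuousMap.ext hgb)) fun U => ?_, ?_⟩, fun U r _ => hW U r⟩
  · ext r
    show D.presheaf.map _ (i.app _ (gA U r)) = f.app U r
    rw [hA U r]
    exact (InvExt.fres_fres _ (le_of_eq (preimage_gBase i hI f U).symm) (f.app U r)).trans (by
      simp only [InvExt.fres]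
      rw [show (homOfLE (le_refl (f ⁻¹ᵁ U))).op = 𝟙 _ from rfl, CategoryTheory.Functor.map_id]
      rfl)
  · have hbase : (g ≫ pX).base = pC.base := by
      refine TopCat.hom_ext (ContinuousMap.ext fun x => ?_)
      obtain ⟨y, rfl⟩ := (isHomeomorph_base i hI).surjective x
      show pX (g (i y)) = pC (i y)
      rw [hgb]
      exact congrArg (fun F : D ⟶ S => F y) hf
    refine Scheme.Hom.ext hbase fun W => ?_
    ext r
    have hle : (Opens.map pC.base).obj W ≤ (Opens.map b).obj (pX ⁻¹ᵁ W) := by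
      rw [← hbase]
      exact le_rfl
    show fres C hle (gA (pX ⁻¹ᵁ W) (pX.app W r)) = pC.app W r
    refine ext_of i hI pC d₁ hφ hS _ ?_ ?_
    · rw [app_res, hA, targA, InvExt.fres_fres]
      show fres D _ ((f ≫ pX).app W r) = (i ≫ pC).app W r
      rw [Scheme.Hom.congr_app hf W]
      refine (InvExt.fres_fres _ (le_of_eq (by rw [hf])) ((i ≫ pC).app W r)).trans ?_
      simp only [InvExt.fres]
      rw [show (homOfLE (le_refl ((i ≫ pC) ⁻¹ᵁ W))).op = 𝟙 _ from rfl, CategoryTheory.Functor.map_id]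
      rfl
    · rw [delta_res, hW, targW]
      have z1 : d₃.app (pX ⁻¹ᵁ W) (pX.app W r) = 0 := d₃.d_app (X := op W) r
      have z2 : d₁.app (pC ⁻¹ᵁ W) (pC.app W r) = 0 := d₁.d_app (X := op W) r
      simp only [delta, z1, z2, map_zero]

include hI hφ hS hc hdf hs in
theorem exists_hom (hf : f ≫ pX = i ≫ pC) : ∃ g : C ⟶ X, i ≫ g = f ∧ g ≫ pX = pC :=
  let ⟨g, hg, _⟩ := exists_hom_delta i hI pC d₁ hφ hS hc pX f d₃ hdf s hs hf
  ⟨g, hg⟩

end GrothLib.SqZero11
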