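import Groth.Agent.Lib.SqZero11.Lift
import Mathlib.Algebra.Homology.DerivedCategory.Ext.ExactSequences

/-!
# Isomorphisms of square-zero extensions and their classes
-/

set_option autoImplicit false
set_option linter.style.haveILetI false
set_option backward.isDefEq.respectTransparency false

universe w u

open CategoryTheory CategoryTheory.Limits AlgebraicGeometry TopologicalSpace Opposite
open GrothLib.InvExt GrothLib.IdealModSec

noncomputable section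

namespace GrothLib.SqZero11

/-- Two extensions with corresponding classes are isomorphic compatibly with the projections. -/
theorem exists_iso_of_extClass {A : Type*} [Category A] [Abelian A] [HasExt.{w} A] {L E W L' E' : A}
    {f : L ⟶ E} {p : E ⟶ W} {hw : f ≫ p = 0} (hS : (ShortComplex.mk f p hw).ShortExact)
    {f' : L' ⟶ E'} {p' : E' ⟶ W} {hw' : f' ≫ p' = 0} (hS' : (ShortComplex.mk f' p' hw').ShortExact)
    (α : L ≅ L') (h : hS.extClass.comp (Abelian.Ext.mk₀ α.hom) (add_zero 1) = hS'.extClass) :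
    ∃ y : E ≅ E', y.hom ≫ p' = p := by
  obtain ⟨x, hx⟩ := Abelian.Ext.contravariant_sequence_exact₁ hS E' (Abelian.Ext.mk₀ (α.hom ≫ f')) (add_zero 1) (by
    rw [← Abelian.Ext.mk₀_comp_mk₀, ← Abelian.Ext.comp_assoc_of_third_deg_zero, h]
    exact hS'.extClass_comp)
  obtain ⟨y, rfl⟩ : ∃ y : E ⟶ E', x = Abelian.Ext.mk₀ y :=
    ⟨Abelian.Ext.addEquiv₀ x, (Abelian.Ext.mk₀_addEquiv₀_apply x).symm⟩
  rw [Abelian.Ext.mk₀_comp_mk₀] at hx
  have hy : f ≫ y = α.hom ≫ f' := (Abelian.Ext.mk₀_bijective _ _).1 hx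
  haveI := hS.epi_g
  obtain ⟨z, hz⟩ : ∃ z : W ⟶ W, p ≫ z = y ≫ p' := by
    obtain ⟨z, hz⟩ := CokernelCofork.IsColimit.desc' hS.exact.gIsCokernel (y ≫ p') (by
      show f ≫ y ≫ p' = 0
      rw [← Category.assoc, hy, Category.assoc, hw', comp_zero])
    exact ⟨z, hz⟩
  let F : ShortComplex.mk f p hw ⟶ ShortComplex.mk f' p' hw' :=
    { τ₁ := α.hom, τ₂ := y, τ₃ := z, comm₁₂ := hy.symm, comm₂₃ := hz.symm }
  have hn := ShortComplex.ShortExact.extClass_naturality hS hS' F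
  change hS.extClass.comp (Abelian.Ext.mk₀ α.hom) _ = (Abelian.Ext.mk₀ z).comp hS'.extClass _ at hn
  rw [h] at hn
  obtain ⟨x₂, hx₂⟩ := Abelian.Ext.covariant_sequence_exact₃ _ hS' (Abelian.Ext.mk₀ (z - 𝟙 W)) (zero_add 1) (by
    rw [sub_eq_add_neg, Abelian.Ext.mk₀_add, Abelian.Ext.add_comp, ← hn, Abelian.Ext.mk₀_neg, Abelian.Ext.neg_comp,
      Abelian.Ext.mk₀_id_comp, add_neg_cancel])
  obtain ⟨l, rfl⟩ : ∃ l : W ⟶ E', x₂ = Abelian.Ext.mk₀ l :=
    ⟨Abelian.Ext.addEquiv₀ x₂, (Abelian.Ext.mk₀_addEquiv₀_apply x₂).symm⟩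
  rw [Abelian.Ext.mk₀_comp_mk₀] at hx₂
  have hl : l ≫ p' = z - 𝟙 W := (Abelian.Ext.mk₀_bijective _ _).1 hx₂
  let G : ShortComplex.mk f p hw ⟶ ShortComplex.mk f' p' hw' :=
    { τ₁ := α.hom, τ₂ := y - p ≫ l, τ₃ := 𝟙 W
      comm₁₂ := by
        show α.hom ≫ f' = f ≫ (y - p ≫ l)
        rw [Preadditive.comp_sub, ← Category.assoc, hw, zero_comp, sub_zero, hy]
      comm₂₃ := by
        show (y - p ≫ l) ≫ p' = p ≫ 𝟙 W
        rw [Preadditive.sub_comp, Category.assoc, hl, Preadditive.comp_sub, hz, sub_sub_cancel] }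
  haveI : IsIso G.τ₁ := inferInstanceAs (IsIso α.hom)
  haveI : IsIso G.τ₃ := inferInstanceAs (IsIso (𝟙 W))
  haveI : IsIso (y - p ≫ l) := ShortComplex.isIso₂_of_shortExact_of_isIso₁₃ G hS hS'
  exact ⟨asIso (y - p ≫ l), G.comm₂₃.trans (Category.comp_id p)⟩

variable {D C C' S : Scheme.{u}} (pD : D ⟶ S) {Ω₂ : D.Modules} (d₂ : OmegaSh.Der pD Ω₂) [HasExt.{w} D.Modules]

/-- An isomorphism of extensions gives an isomorphism of conormal sheaves matching the classes. -/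
theorem exists_conormal_iso (i : D ⟶ C) [IsClosedImmersion i] (hI : i.ker ^ 2 = ⊥) (pC : C ⟶ S)
    {Ω₁ : C.Modules} (d₁ : OmegaSh.Der pC Ω₁)
    {φ : Omega.conormal i ⟶ (Scheme.Modules.pullback i).obj Ω₁} (hφ : OmegaSh.IsConormalDiff i d₁ φ)
    {c : (Scheme.Modules.pullback i).obj Ω₁ ⟶ Ω₂} (hc : OmegaSh.IsDiffCompat i d₁ d₂ c)
    {hw : φ ≫ c = 0} (hS : (ShortComplex.mk φ c hw).ShortExact)
    (i' : D ⟶ C') [IsClosedImmersion i'] (hI' : i'.ker ^ 2 = ⊥) (pC' : C' ⟶ S)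
    {Ω₁' : C'.Modules} {d₁' : OmegaSh.Der pC' Ω₁'} (hd₁' : OmegaSh.IsUniversal d₁')
    {φ' : Omega.conormal i' ⟶ (Scheme.Modules.pullback i').obj Ω₁'} (hφ' : OmegaSh.IsConormalDiff i' d₁' φ')
    {c' : (Scheme.Modules.pullback i').obj Ω₁' ⟶ Ω₂} (hc' : OmegaSh.IsDiffCompat i' d₁' d₂ c')
    {hw' : φ' ≫ c' = 0} (hS' : (ShortComplex.mk φ' c' hw').ShortExact)
    (g : C ⟶ C') [IsIso g] (hgi : i ≫ g = i') (hgk : g ≫ pC' = pC) :
    ∃ α : Omega.conormal i ≅ Omega.conormal i',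
      hS.extClass.comp (Abelian.Ext.mk₀ α.hom) (add_zero 1) = hS'.extClass := by
  subst hgi hgk
  haveI := hS.mono_f
  let β := diffMap i g pC' d₁ hd₁'
  have hβ : β ≫ c = c' := diffMap_compat i g pC' d₁ hd₁' c hc c' hc'
  obtain ⟨θ, hθ⟩ := KernelFork.IsLimit.lift' hS.exact.fIsKernel (φ' ≫ β) (by
    show (φ' ≫ β) ≫ c = 0
    rw [Category.assoc, hβ, hw'])
  change θ ≫ φ = φ' ≫ β at hθ
  let F : ShortComplex.mk φ' c' hw' ⟶ ShortComplex.mk φ c hw :=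
    { τ₁ := θ, τ₂ := β, τ₃ := 𝟙 Ω₂, comm₁₂ := hθ, comm₂₃ := hβ.trans (Category.comp_id c').symm }
  have hn := (ShortComplex.ShortExact.extClass_naturality hS' hS F).trans (Abelian.Ext.mk₀_id_comp _)
  have key : ∀ (U : C'.Opens) (m : Γ(ClSub.idealMod (i ≫ g).ker, U)) (m₀ : Γ(ClSub.idealMod i.ker, g ⁻¹ᵁ U)),
      OmegaSh.idealSect i.ker (g ⁻¹ᵁ U) m₀ = g.app U (OmegaSh.idealSect (i ≫ g).ker U m) →
      θ.app ((i ≫ g) ⁻¹ᵁ U) (OmegaSh.conormalSect (i ≫ g) U m) = OmegaSh.conormalSect i (g ⁻¹ᵁ U) m₀ := by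
    intro U m m₀ hm
    refine (app_phi i hS (i ⁻¹ᵁ (g ⁻¹ᵁ U))).1 ?_
    refine (congr($(hθ).app ((i ≫ g) ⁻¹ᵁ U) (OmegaSh.conormalSect (i ≫ g) U m))).trans ?_
    show β.app _ (φ'.app _ (OmegaSh.conormalSect (i ≫ g) U m)) = _
    rw [hφ' U m, diffMap_pullSect, ← hm]
    exact (hφ (g ⁻¹ᵁ U) m₀).symm
  have hbij : ∀ U : C'.Opens, Function.Bijective (θ.app ((i ≫ g) ⁻¹ᵁ U)) := by
    intro U
    haveI : IsIso (g.app U) := inferInstance
    refine ⟨(injective_iff_map_eq_zero _).2 fun k hk => ?_, fun k => ?_⟩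
    · obtain ⟨m, rfl⟩ := (conormalSect_bijective (i ≫ g) hI' U).2 k
      obtain ⟨m₀, hm₀⟩ := exists_idealSect i (g ⁻¹ᵁ U) (g.app U (OmegaSh.idealSect (i ≫ g).ker U m))
        (H1Sheaf6.app_val_eq_zero (i ≫ g) U m)
      rw [key U m m₀ hm₀] at hk
      have h0 : m₀ = 0 := (conormalSect_bijective i hI _).1 (hk.trans (map_zero _).symm)
      rw [h0, map_zero] at hm₀
      have h1 : OmegaSh.idealSect (i ≫ g).ker U m = 0 :=
        (ConcreteCategory.bijective_of_isIso (g.app U)).1 (hm₀.symm.trans (map_zero _).symm)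
      have h2 : m = 0 := val_injective (i ≫ g).ker U (h1.trans (val_zero _ _).symm)
      rw [h2]
      exact map_zero _
    · obtain ⟨m₀, hm₀⟩ := (conormalSect_bijective i hI (g ⁻¹ᵁ U)).2 k
      obtain ⟨t, ht⟩ := (ConcreteCategory.bijective_of_isIso (g.app U)).2 (OmegaSh.idealSect i.ker (g ⁻¹ᵁ U) m₀)
      obtain ⟨m, hm⟩ := exists_idealSect (i ≫ g) U t (by
        show i.app (g ⁻¹ᵁ U) (g.app U t) = 0
        rw [ht]
        exact H1Sheaf6.app_val_eq_zero i (g ⁻¹ᵁ U) m₀)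
      exact ⟨OmegaSh.conormalSect (i ≫ g) U m, (key U m m₀ (by rw [hm, ht])).trans hm₀⟩
  haveI : IsIso θ := by
    rw [Scheme.Modules.Hom.isIso_iff_isIso_app]
    intro W
    rw [ConcreteCategory.isIso_iff_bijective]
    obtain ⟨O, hO, hOW⟩ := (i ≫ g).isClosedEmbedding.isInducing.isOpen_iff.1 W.2
    obtain rfl : W = (i ≫ g) ⁻¹ᵁ ⟨O, hO⟩ := Opens.ext hOW.symm
    exact hbij _
  refine ⟨(asIso θ).symm, ?_⟩
  have hn' : hS'.extClass.comp (Abelian.Ext.mk₀ θ) (add_zero 1) = hS.extClass := hn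
  rw [← hn', Abelian.Ext.comp_assoc_of_third_deg_zero, Abelian.Ext.mk₀_comp_mk₀, Iso.symm_hom, asIso_inv,
    IsIso.hom_inv_id, Abelian.Ext.comp_mk₀_id]

/-- Extensions with corresponding classes are isomorphic. -/
theorem exists_scheme_iso (i : D ⟶ C) [IsClosedImmersion i] (hI : i.ker ^ 2 = ⊥) (pC : C ⟶ S)
    {Ω₁ : C.Modules} (d₁ : OmegaSh.Der pC Ω₁)
    {φ : Omega.conormal i ⟶ (Scheme.Modules.pullback i).obj Ω₁} (hφ : OmegaSh.IsConormalDiff i d₁ φ)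
    {c : (Scheme.Modules.pullback i).obj Ω₁ ⟶ Ω₂} (hc : OmegaSh.IsDiffCompat i d₁ d₂ c)
    {hw : φ ≫ c = 0} (hS : (ShortComplex.mk φ c hw).ShortExact)
    (i' : D ⟶ C') [IsClosedImmersion i'] (hI' : i'.ker ^ 2 = ⊥) (pC' : C' ⟶ S)
    {Ω₁' : C'.Modules} {d₁' : OmegaSh.Der pC' Ω₁'}
    {φ' : Omega.conormal i' ⟶ (Scheme.Modules.pullback i').obj Ω₁'} (hφ' : OmegaSh.IsConormalDiff i' d₁' φ')
    {c' : (Scheme.Modules.pullback i').obj Ω₁' ⟶ Ω₂} (hc' : OmegaSh.IsDiffCompat i' d₁' d₂ c')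
    {hw' : φ' ≫ c' = 0} (hS' : (ShortComplex.mk φ' c' hw').ShortExact)
    (hp : i' ≫ pC' = i ≫ pC) (α : Omega.conormal i ≅ Omega.conormal i')
    (h : hS.extClass.comp (Abelian.Ext.mk₀ α.hom) (add_zero 1) = hS'.extClass) :
    ∃ ψ : C ≅ C', i ≫ ψ.hom = i' ∧ ψ.hom ≫ pC' = pC := by
  obtain ⟨y, hy⟩ := exists_iso_of_extClass hS hS' α h
  have hy' : y.inv ≫ c = c' := by rw [← hy, Iso.inv_hom_id_assoc]
  obtain ⟨g, ⟨hgi, hgk⟩, hδ⟩ := exists_hom_delta i hI pC d₁ hφ hS hc pC' i' d₁' hc' y.inv hy' hp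
  have hbase : IsHomeomorph g := by
    let e := (isHomeomorph_base i hI).homeomorph i
    have : (g : C → C') = i' ∘ e.symm := funext fun x => by
      conv_lhs => rw [← e.apply_symm_apply x]
      exact congrArg (fun F : D ⟶ C' => F (e.symm x)) hgi
    rw [this]
    exact (isHomeomorph_base i' hI').comp e.symm.isHomeomorph
  have hpre : ∀ U : C'.Opens, i ⁻¹ᵁ (g ⁻¹ᵁ U) = i' ⁻¹ᵁ U := fun U => by rw [← hgi]; rfl
  have hiv : ∀ (U : C'.Opens) (r : Γ(C', U)),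
      i.app (g ⁻¹ᵁ U) (g.app U r) = fres D (hpre U).le (i'.app U r) := fun U r => by
    subst hgi
    exact (congr($((D.presheaf.map_id (op ((i ≫ g) ⁻¹ᵁ U)))) ((i ≫ g).app U r))).symm
  have hdv : ∀ (U : C'.Opens) (r : Γ(C', U)),
      mres _ (hpre U).ge (delta i pC d₁ (g ⁻¹ᵁ U) (g.app U r)) = y.inv.app (i' ⁻¹ᵁ U) (delta i' pC' d₁' U r) :=
    fun U r => by
      rw [hδ U r (hpre U).le, InvExt.mres_mres]
      exact InvExt.mres_self _ _
  have hbij : ∀ U : C'.Opens, Function.Bijective (g.app U) := by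
    intro U
    refine ⟨fun r r' e => ext_of i' hI' pC' d₁' hφ' hS' U ?_ ?_, fun t => ?_⟩
    · have h1 := hiv U r
      rw [e, hiv U r'] at h1
      have h2 := congrArg (fres D (hpre U).ge) h1
      rw [InvExt.fres_fres, InvExt.fres_fres] at h2
      have hid : ∀ a : Γ(D, i' ⁻¹ᵁ U), fres D (le_refl (i' ⁻¹ᵁ U)) a = a := fun a => by
        show D.presheaf.map (𝟙 _) a = a
        rw [CategoryTheory.Functor.map_id]; rfl
      exact (hid _).symm.trans (h2.symm.trans (hid _))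
    · have h1 := hdv U r
      rw [e, hdv U r'] at h1
      exact ((ConcreteCategory.bijective_of_isIso (y.inv.app (i' ⁻¹ᵁ U))).1 h1).symm
    · let a : Γ(D, i' ⁻¹ᵁ U) := fres D (hpre U).ge (i.app (g ⁻¹ᵁ U) t)
      let w := y.hom.app (i' ⁻¹ᵁ U) (mres _ (hpre U).ge (delta i pC d₁ (g ⁻¹ᵁ U) t))
      obtain ⟨r, hr1, hr2⟩ := exists_of i' hI' pC' d₁' hφ' hS' hc' U a w (by
        show (y.hom ≫ c').app (i' ⁻¹ᵁ U) (mres _ (hpre U).ge (delta i pC d₁ (g ⁻¹ᵁ U) t)) = _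
        rw [hy]
        refine (ConcreteCategory.congr_hom (c.mapPresheaf.naturality (homOfLE (hpre U).ge).op) _).trans ?_
        exact (congrArg (Ω₂.presheaf.map _) (hc (g ⁻¹ᵁ U) t)).trans
          (d₂.d_map (homOfLE (hpre U).ge).op (i.app (g ⁻¹ᵁ U) t)).symm)
      refine ⟨r, ext_of i hI pC d₁ hφ hS _ ?_ ?_⟩
      · rw [hiv U r, hr1, InvExt.fres_fres]
        show D.presheaf.map (𝟙 _) _ = _
        rw [CategoryTheory.Functor.map_id]; rfl
      · have h1 := hdv U r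
        rw [hr2] at h1
        have h2 : y.inv.app (i' ⁻¹ᵁ U) w = mres _ (hpre U).ge (delta i pC d₁ (g ⁻¹ᵁ U) t) :=
          congr($(y.hom_inv_id).app (i' ⁻¹ᵁ U) (mres _ (hpre U).ge (delta i pC d₁ (g ⁻¹ᵁ U) t)))
        have h3 := congrArg (mres _ (hpre U).le) (h1.trans h2)
        rw [InvExt.mres_mres, InvExt.mres_mres, InvExt.mres_self, InvExt.mres_self] at h3
        exact h3
  haveI : IsIso g := by
    haveI : IsIso g.toPshHom.c := by
      haveI : ∀ U, IsIso (g.toPshHom.c.app U) := fun U => (ConcreteCategory.isIso_iff_bijective _).2 (hbij U.unop)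
      exact NatIso.isIso_of_isIso_app _
    haveI : IsIso g.toPshHom.base := by
      exact (TopCat.isIso_iff_isHomeomorph _).2 hbase
    haveI : IsIso g.toPshHom := PresheafedSpace.isIso_of_components _
    haveI : IsIso ((Scheme.forgetToLocallyRingedSpace ⋙ LocallyRingedSpace.forgetToSheafedSpace ⋙
        SheafedSpace.forgetToPresheafedSpace).map g) := inferInstanceAs (IsIso g.toPshHom)
    exact isIso_of_reflects_iso g (Scheme.forgetToLocallyRingedSpace ⋙ LocallyRingedSpace.forgetToSheafedSpace ⋙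
        SheafedSpace.forgetToPresheafedSpace)
  exact ⟨asIso g, hgi, hgk⟩

end GrothLib.SqZero11
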