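import Groth.Agent.Lib.SqZero11.Lift

/-!
# Splittings of square-zero extensions
-/

set_option autoImplicit false
set_option linter.style.haveILetI false
set_option backward.isDefEq.respectTransparency false

universe w u

open CategoryTheory CategoryTheory.Limits AlgebraicGeometry TopologicalSpace Opposite

noncomputable section

namespace GrothLib.SqZero11

variable {D C S : Scheme.{u}} (i : D ⟶ C) [IsClosedImmersion i] (hI : i.ker ^ 2 = ⊥) (pC : C ⟶ S)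
  {Ω₁ : C.Modules} (d₁ : OmegaSh.Der pC Ω₁) {Ω₂ : D.Modules} {d₂ : OmegaSh.Der (i ≫ pC) Ω₂}
  {φ : Omega.conormal i ⟶ (Scheme.Modules.pullback i).obj Ω₁} (hφ : OmegaSh.IsConormalDiff i d₁ φ)
  {c : (Scheme.Modules.pullback i).obj Ω₁ ⟶ Ω₂} (hc : OmegaSh.IsDiffCompat i d₁ d₂ c)
  {hw : φ ≫ c = 0} (hS : (ShortComplex.mk φ c hw).ShortExact)

include hI hφ hc hS in
/-- Extensions of a morphism correspond to lifts of its differential. -/
theorem exists_hom_iff {X : Scheme.{u}} (pX : X ⟶ S) (f : D ⟶ X) (hf : f ≫ pX = i ≫ pC) {Ω₃ : X.Modules}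
    (d₃ : OmegaSh.Der pX Ω₃) (hd₃ : OmegaSh.IsUniversal d₃) {df : (Scheme.Modules.pullback f).obj Ω₃ ⟶ Ω₂}
    (hdf : OmegaSh.IsDiffCompat f d₃ d₂ df) :
    (∃ g : C ⟶ X, i ≫ g = f ∧ g ≫ pX = pC) ↔
      ∃ s : (Scheme.Modules.pullback f).obj Ω₃ ⟶ (Scheme.Modules.pullback i).obj Ω₁, s ≫ c = df := by
  refine ⟨?_, fun ⟨s, hs⟩ => exists_hom i hI pC d₁ hφ hS hc pX f d₃ hdf s hs hf⟩
  rintro ⟨g, rfl, rfl⟩
  exact ⟨diffMap i g pX d₁ hd₃, diffMap_compat i g pX d₁ hd₃ c hc df hdf⟩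

include hI hφ hc in
/-- A retraction exists if and only if the extension class vanishes. -/
theorem exists_retraction_iff [HasExt.{w} D.Modules] (hd₂ : OmegaSh.IsUniversal d₂) :
    (∃ r : C ⟶ D, i ≫ r = 𝟙 D ∧ r ≫ i ≫ pC = pC) ↔ hS.extClass = 0 := by
  let P := Scheme.Modules.pullbackId D
  have hdf : OmegaSh.IsDiffCompat (𝟙 D) d₂ d₂ (P.hom.app Ω₂) := fun U s => by
    rw [← PPGen.pullbackId_inv_app Ω₂ U (d₂.app U s)]
    exact congr($(P.inv_hom_id_app Ω₂).app U (d₂.app U s))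
  rw [exists_hom_iff i hI pC d₁ hφ hc hS (i ≫ pC) (𝟙 D) (Category.id_comp _) d₂ hd₂ hdf]
  constructor
  · rintro ⟨s, hs⟩
    have h1 : (P.inv.app Ω₂ ≫ s) ≫ c = 𝟙 Ω₂ := by
      rw [Category.assoc, hs]
      exact P.inv_hom_id_app Ω₂
    calc hS.extClass = (Abelian.Ext.mk₀ ((P.inv.app Ω₂ ≫ s) ≫ c)).comp hS.extClass (zero_add 1) := by
          rw [h1]; exact (Abelian.Ext.mk₀_id_comp _).symm
      _ = 0 := by
          rw [← Abelian.Ext.mk₀_comp_mk₀, Abelian.Ext.comp_assoc_of_second_deg_zero, hS.comp_extClass, Abelian.Ext.comp_zero]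
  · intro h
    obtain ⟨x, hx⟩ := Abelian.Ext.covariant_sequence_exact₃ _ hS (Abelian.Ext.mk₀ (𝟙 Ω₂)) (zero_add 1)
      ((Abelian.Ext.mk₀_id_comp _).trans h)
    obtain ⟨l, rfl⟩ : ∃ l : Ω₂ ⟶ (Scheme.Modules.pullback i).obj Ω₁, x = Abelian.Ext.mk₀ l :=
      ⟨Abelian.Ext.addEquiv₀ x, (Abelian.Ext.mk₀_addEquiv₀_apply x).symm⟩
    rw [Abelian.Ext.mk₀_comp_mk₀] at hx
    refine ⟨P.hom.app Ω₂ ≫ l, ?_⟩
    rw [Category.assoc, (Abelian.Ext.mk₀_bijective _ _).1 hx]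
    exact Category.comp_id _

end GrothLib.SqZero11
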